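import Mathlib
import Cfsg.Agent.Lib.Helper48.FrakL
import Cfsg.Agent.Lib.Helper19.NatSL2

/-!
# Project FL (S2863): members of `𝔏_G(Y_M)` — non-`p`-elements act fixed-point-freely on `O_p(L)/C_Y(L)`
(helper48).  Definitions.

* `LMod φ Yh R W1`: the module data for the action `φ` of `K = L/O_p(L)` on `W = O_p(L)/C_Y(L)`, where
  `Yh` is the image of `Y`, `R` the image of `N_L(Y)` and `W1` the image of `Y ∩ O_p(L)`.
* `Fpf φ h`: `h` fixes only the identity of `W`.
* `LRaw p Y A`: the data in the group `L` (with `A = O_p(L)`).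
* `SL2Mod φ W1`: the module data for `K = SL(2,F)` in standard position; `rr φ a` is the endomorphism
  `x ↦ [u(a), w⁻¹ x]` of `W`, which restricted to `W1` makes `W1` an `F`-vector space.
-/

set_option autoImplicit false

namespace Cfsg.Agent.Lib.Helper48.FL

open Cfsg
open Matrix Matrix.SpecialLinearGroup
open scoped MatrixGroups
open Cfsg.Agent.Lib.Helper19.NatSL2

universe u

/-- Module data: `K` acts on the commutative group `W` via `φ`; `Yh` centralizes `W1` and `[W, Yh] ≤ W1`; `R`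
stabilizes `W1`; and for every `k ∉ R` we have `W = W1 × k W1` (internal direct product). -/
structure LMod {K : Type*} [Group K] {W : Type*} [CommGroup W] (φ : K →* MulAut W)
    (Yh R : Subgroup K) (W1 : Subgroup W) : Prop where
  cent : ∀ y ∈ Yh, ∀ x ∈ W1, φ y x = x
  comm : ∀ y ∈ Yh, ∀ x : W, φ y x / x ∈ W1
  stab : ∀ r ∈ R, ∀ x ∈ W1, φ r x ∈ W1
  disj : ∀ k : K, k ∉ R → ∀ x ∈ W1, φ k x ∈ W1 → x = 1
  span : ∀ k : K, k ∉ R → ∀ x : W, ∃ a ∈ W1, ∃ b ∈ W1, x = a * φ k b

/-- `h` acts fixed-point-freely on `W`. -/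
def Fpf {K : Type*} [Group K] {W : Type*} [CommGroup W] (φ : K →* MulAut W) (h : K) : Prop :=
  ∀ x : W, φ h x = x → x = 1

/-- The data in `L`: `A` a normal `p`-subgroup with `C_L(A) ≤ A`, `Y` elementary abelian, normalized by `A`,
`A` is the normal closure of `Y ∩ A`, `N_L(Y)` is proper and contains every proper subgroup containing `Y`, and
`Y` generates `L` as a normal subgroup. -/
structure LRaw (p : ℕ) {L : Type*} [Group L] (Y A : Subgroup L) : Prop where
  pA : IsPGroup p A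
  eaY : IsElementaryAbelian p Y
  norm : A ≤ Subgroup.normalizer (Y : Set L)
  gen : A ≤ Subgroup.normalClosure ((Y ⊓ A : Subgroup L) : Set L)
  self : Subgroup.centralizer (A : Set L) ≤ A
  lt : Subgroup.normalizer (Y : Set L) ≠ ⊤
  max : ∀ X : Subgroup L, Y ≤ X → X ≠ ⊤ → X ≤ Subgroup.normalizer (Y : Set L)
  ncl : Subgroup.normalClosure (Y : Set L) = ⊤

section SL2

variable {F : Type*} [Field F] {W : Type*} [CommGroup W]

/-- Module data for `SL(2,F)` in standard position (`uu a` upper unitriangular, `ww` the Weyl element,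
`hh t` diagonal; from `Cfsg.Agent.Lib.Helper19.NatSL2`). -/
structure SL2Mod (φ : SL(2, F) →* MulAut W) (W1 : Subgroup W) : Prop where
  cent : ∀ a : F, ∀ x ∈ W1, φ (uu a) x = x
  comm : ∀ (a : F) (x : W), φ (uu a) x / x ∈ W1
  disj : ∀ x ∈ W1, φ ww x ∈ W1 → x = 1
  span : ∀ x : W, ∃ a ∈ W1, ∃ b ∈ W1, x = a * φ ww b
  stab : ∀ t : Fˣ, ∀ x ∈ W1, φ (hh t) x ∈ W1

/-- `ρ(a) : x ↦ [u(a), w⁻¹ x] = u(a)(w⁻¹ x) / (w⁻¹ x)`, an endomorphism of `W` with values in `W1`. -/
def rr (φ : SL(2, F) →* MulAut W) (a : F) : W →* W where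
  toFun x := φ (uu a) (φ ww⁻¹ x) / φ ww⁻¹ x
  map_one' := by simp
  map_mul' x y := by simp [mul_div_mul_comm]

theorem rr_apply (φ : SL(2, F) →* MulAut W) (a : F) (x : W) :
    rr φ a x = φ (uu a) (φ ww⁻¹ x) / φ ww⁻¹ x := rfl

end SL2

end Cfsg.Agent.Lib.Helper48.FL
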