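import Mathlib
import Cfsg.Agent.Lib.Helper48.FL.Defs

/-!
# Project FL (S2863): FL-[LMOD] — the module data for the action of `L/A` on `A/C` (helper48)
-/

set_option autoImplicit false

namespace Cfsg.Agent.Lib.Helper48.FL

open Cfsg Cfsg.Agent.Lib.Helper48

universe u

/-- FL-[LMOD] -/
theorem lmod_of_raw {L : Type u} [Group L] {p : ℕ} (Y A : Subgroup L) [hA : A.Normal] (hD : LRaw p Y A)
    (hG1 : ∀ y ∈ Y, ∀ a ∈ A, y * a * y⁻¹ * a⁻¹ ∈ Y ⊓ A)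
    (hG2 : ∀ g : L, g ∉ Subgroup.normalizer (Y : Set L) → ∀ a ∈ A,
      ∃ u ∈ Y ⊓ A, ∃ v ∈ Y ⊓ A, a = u * (g * v * g⁻¹))
    (hG3 : ∀ g : L, g ∉ Subgroup.normalizer (Y : Set L) → ∀ u ∈ Y ⊓ A, g * u * g⁻¹ ∈ Y ⊓ A →
      u ∈ Y ⊓ Subgroup.center L)
    (hG4 : Y ⊓ Subgroup.center L ≤ Y ⊓ A)
    {W : Type u} [CommGroup W] (φ : L ⧸ A →* MulAut W) (q : A →* W)
    (hq : Function.Surjective q) (hker : ∀ a : A, q a = 1 ↔ (a : L) ∈ Y ⊓ Subgroup.center L)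
    (hact : ∀ (l : L) (a : A), φ (l : L ⧸ A) (q a) = q ⟨l * a * l⁻¹, hA.conj_mem a a.2 l⟩) :
    LMod φ (Y.map (QuotientGroup.mk' A))
      ((Subgroup.normalizer (Y : Set L)).map (QuotientGroup.mk' A))
      (((Y ⊓ A).subgroupOf A).map q) := by
  -- membership in `W1`
  have hW1 : ∀ x : W, x ∈ ((Y ⊓ A).subgroupOf A).map q ↔ ∃ u : A, (u : L) ∈ Y ⊓ A ∧ q u = x := by
    intro x
    constructor
    · rintro ⟨u, hu, rfl⟩
      exact ⟨u, hu, rfl⟩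
    · rintro ⟨u, hu, rfl⟩
      exact ⟨u, hu, rfl⟩
  -- `g ∉ N(Y)` from `π g ∉ R`
  have hnot : ∀ g : L, (QuotientGroup.mk' A g) ∉ (Subgroup.normalizer (Y : Set L)).map (QuotientGroup.mk' A) →
      g ∉ Subgroup.normalizer (Y : Set L) := fun g hg hc => hg ⟨g, hc, rfl⟩
  have hcommY : ∀ y ∈ Y, ∀ y' ∈ Y, y * y' = y' * y := by
    intro y hy y' hy'
    have := hD.eaY.1
    have h := this.is_comm.comm ⟨y, hy⟩ ⟨y', hy'⟩
    exact congrArg Subtype.val h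
  refine ⟨?_, ?_, ?_, ?_, ?_⟩
  · -- cent
    rintro _ ⟨y, hy, rfl⟩ x hx
    obtain ⟨u, hu, rfl⟩ := (hW1 x).mp hx
    change φ ((y : L ⧸ A)) (q u) = q u
    rw [hact]
    congr 1
    apply Subtype.ext
    show y * u * y⁻¹ = u
    rw [hcommY y hy u hu.1, mul_inv_cancel_right]
  · -- comm
    rintro _ ⟨y, hy, rfl⟩ x
    obtain ⟨a, rfl⟩ := hq x
    change φ ((y : L ⧸ A)) (q a) / q a ∈ _
    rw [hact, ← map_div]
    rw [hW1]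
    refine ⟨⟨y * a * y⁻¹, hA.conj_mem a a.2 y⟩ / a, ?_, rfl⟩
    have : ((⟨y * a * y⁻¹, hA.conj_mem a a.2 y⟩ / a : A) : L) = y * a * y⁻¹ * (a : L)⁻¹ := by
      simp [div_eq_mul_inv]
    rw [this]
    exact hG1 y hy a a.2
  · -- stab
    rintro _ ⟨n, hn, rfl⟩ x hx
    obtain ⟨u, hu, rfl⟩ := (hW1 x).mp hx
    change φ ((n : L ⧸ A)) (q u) ∈ _
    rw [hact, hW1]
    refine ⟨_, ?_, rfl⟩
    show n * u * n⁻¹ ∈ Y ⊓ A
    exact ⟨(Subgroup.mem_normalizer_iff.mp hn _).mp hu.1, hA.conj_mem u u.2 n⟩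
  · -- disj
    intro k hk x hx hkx
    obtain ⟨g, rfl⟩ := QuotientGroup.mk'_surjective A k
    have hg := hnot g hk
    obtain ⟨u, hu, rfl⟩ := (hW1 x).mp hx
    change φ ((g : L ⧸ A)) (q u) ∈ _ at hkx
    rw [hact, hW1] at hkx
    obtain ⟨u', hu', he⟩ := hkx
    -- `g u g⁻¹ u'⁻¹ ∈ C`
    have h1 : q (⟨g * u * g⁻¹, hA.conj_mem u u.2 g⟩ / u') = 1 := by
      rw [map_div, he, div_self']
    have h2 := (hker _).mp h1
    have h3 : ((⟨g * u * g⁻¹, hA.conj_mem u u.2 g⟩ / u' : A) : L) = g * u * g⁻¹ * (u' : L)⁻¹ := by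
      simp [div_eq_mul_inv]
    rw [h3] at h2
    have h4 : g * u * g⁻¹ ∈ Y ⊓ A := by
      have := (Y ⊓ A).mul_mem (hG4 h2) hu'
      rwa [inv_mul_cancel_right] at this
    exact (hker u).mpr (hG3 g hg u hu h4)
  · -- span
    intro k hk x
    obtain ⟨g, rfl⟩ := QuotientGroup.mk'_surjective A k
    have hg := hnot g hk
    obtain ⟨a, rfl⟩ := hq x
    obtain ⟨u, hu, v, hv, hauv⟩ := hG2 g hg a a.2
    refine ⟨q ⟨u, hu.2⟩, (hW1 _).mpr ⟨⟨u, hu.2⟩, hu, rfl⟩, q ⟨v, hv.2⟩,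
      (hW1 _).mpr ⟨⟨v, hv.2⟩, hv, rfl⟩, ?_⟩
    change q a = q ⟨u, hu.2⟩ * φ ((g : L ⧸ A)) (q ⟨v, hv.2⟩)
    rw [hact, ← map_mul]
    congr 1
    apply Subtype.ext
    exact hauv

end Cfsg.Agent.Lib.Helper48.FL
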