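import Mathlib
import Cfsg.Agent.Lib.Helper48.FL.Defs

/-!
# Project FL (S2863): FL-[RAWLQ] and the lifting step of FL-[RAWGEN2] (helper48)
-/

set_option autoImplicit false

namespace Cfsg.Agent.Lib.Helper48.FL

open Cfsg Cfsg.Agent.Lib.Helper48

universe u

/-- FL-[RAWLQ] -/
theorem lquot_of_raw {L : Type u} [Group L] {p : ℕ} (Y A : Subgroup L) [A.Normal] (hD : LRaw p Y A) :
    LQuot p (Y.map (QuotientGroup.mk' A))
      ((Subgroup.normalizer (Y : Set L)).map (QuotientGroup.mk' A)) := by
  have hsurj : Function.Surjective (QuotientGroup.mk' A) := QuotientGroup.mk'_surjective A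
  have hcomap : ((Subgroup.normalizer (Y : Set L)).map (QuotientGroup.mk' A)).comap (QuotientGroup.mk' A) =
      Subgroup.normalizer (Y : Set L) := by
    rw [Subgroup.comap_map_eq, QuotientGroup.ker_mk']
    exact sup_eq_left.mpr hD.norm
  refine ⟨Subgroup.map_mono Subgroup.le_normalizer, ?_, ?_, ?_, ?_, isElementaryAbelian_map _ hD.eaY⟩
  · intro htop
    apply hD.lt
    rw [← hcomap, htop, Subgroup.comap_top]
  · exact Subgroup.le_normalizer_map _
  · intro X hYX hXtop
    have h1 : Y ≤ X.comap (QuotientGroup.mk' A) := by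
      rw [← Subgroup.map_le_iff_le_comap]; exact hYX
    have h2 : X.comap (QuotientGroup.mk' A) ≠ ⊤ := by
      intro htop
      apply hXtop
      rw [← Subgroup.map_comap_eq_self_of_surjective hsurj X, htop, ← MonoidHom.range_eq_map]
      exact MonoidHom.range_eq_top.mpr hsurj
    have h3 := hD.max _ h1 h2
    rw [← Subgroup.map_comap_eq_self_of_surjective hsurj X]
    exact Subgroup.map_mono h3
  · have := Subgroup.map_normalClosure (Y : Set L) (QuotientGroup.mk' A) hsurj
    rw [hD.ncl] at this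
    rw [Subgroup.coe_map, ← this, ← MonoidHom.range_eq_map]
    exact MonoidHom.range_eq_top.mpr hsurj

/-- FL-[RAWGEN2], with FL-[KGEN2] as a hypothesis. -/
theorem raw_gen2_of {L : Type u} [Group L] {p : ℕ} (Y A : Subgroup L) [A.Normal]
    (hD : LRaw p Y A)
    (hK : ∀ k : L ⧸ A, k ∉ (Subgroup.normalizer (Y : Set L)).map (QuotientGroup.mk' A) →
      Y.map (QuotientGroup.mk' A) ⊔ (Y.map (QuotientGroup.mk' A)).map (MulAut.conj k).toMonoidHom = ⊤)
    (g : L) (hg : g ∉ Subgroup.normalizer (Y : Set L)) :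
    Y ⊔ Y.map (MulAut.conj g).toMonoidHom = ⊤ := by
  have hQ := lquot_of_raw Y A hD
  have hcomap : ((Subgroup.normalizer (Y : Set L)).map (QuotientGroup.mk' A)).comap (QuotientGroup.mk' A) =
      Subgroup.normalizer (Y : Set L) := by
    rw [Subgroup.comap_map_eq, QuotientGroup.ker_mk']
    exact sup_eq_left.mpr hD.norm
  have hg' : QuotientGroup.mk' A g ∉ (Subgroup.normalizer (Y : Set L)).map (QuotientGroup.mk' A) := by
    intro hc
    apply hg
    rw [← hcomap]
    exact hc
  have h1 := hK _ hg'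
  by_contra hne
  have h2 := hD.max _ le_sup_left hne
  have h3 : (Y ⊔ Y.map (MulAut.conj g).toMonoidHom).map (QuotientGroup.mk' A) = ⊤ := by
    rw [Subgroup.map_sup, Subgroup.map_map, ← h1, Subgroup.map_map]
    congr 2
  apply hQ.ne_top
  rw [eq_top_iff, ← h3]
  exact Subgroup.map_mono h2

end Cfsg.Agent.Lib.Helper48.FL
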