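import Mathlib
import Cfsg.Agent.Lib.Helper48.FL.Defs

/-!
# Project FL (S2863): FL-[SL2FPF] — elements of trace `≠ 2` are fixed-point-free (helper48)
-/

set_option autoImplicit false

namespace Cfsg.Agent.Lib.Helper48.FL

open Matrix Matrix.SpecialLinearGroup
open scoped MatrixGroups
open Cfsg.Agent.Lib.Helper19.NatSL2

section SL2

variable {F : Type*} [Field F] {W : Type*} [CommGroup W]

theorem ww_eq_ww_inv_mul : (ww : SL(2, F)) = ww⁻¹ * hh (-1) := by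
  rw [ww_inv, mul_assoc, hh_neg_one_sq, mul_one]

/-- FL-[SL2FPF] -/
theorem fpf_of_trace (φ : SL(2, F) →* MulAut W) {W1 : Subgroup W} (hS : SL2Mod φ W1)
    (h1 : ∀ (a : F) (x : W), rr φ a x ∈ W1)
    (h2 : ∀ (a b : F) (x : W), rr φ (a + b) x = rr φ a x * rr φ b x)
    (h3 : ∀ x ∈ W1, rr φ 1 x = x)
    (h4 : ∀ (a b : F), ∀ x ∈ W1, rr φ (a * b) x = rr φ a (rr φ b x))
    (hmat : ∀ (g : SL(2, F)) (x₁ x₂ : W), x₁ ∈ W1 → x₂ ∈ W1 → φ g (x₁ * φ ww⁻¹ x₂) =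
      (rr φ (g.1 0 0) x₁ * rr φ (g.1 0 1) x₂) * φ ww⁻¹ (rr φ (g.1 1 0) x₁ * rr φ (g.1 1 1) x₂))
    (g : SL(2, F)) (hg : g.1 0 0 + g.1 1 1 ≠ 2) : Fpf φ g := by
  intro x hx
  obtain ⟨a, ha, b, hb, rfl⟩ := hS.span x
  set x₂ : W := φ (hh (-1)) b with hx₂
  have hx₂W : x₂ ∈ W1 := hS.stab _ b hb
  have hwb : φ ww b = φ ww⁻¹ x₂ := by
    rw [hx₂, ← MulAut.mul_apply, ← map_mul, ← ww_eq_ww_inv_mul]
  rw [hwb] at hx ⊢
  set α := g.1 0 0 with hα
  set β := g.1 0 1 with hβ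
  set γ := g.1 1 0 with hγ
  set δ := g.1 1 1 with hδ
  have hdet : α * δ - β * γ = 1 := by
    have := g.2; rwa [Matrix.det_fin_two] at this
  rw [hmat g a x₂ ha hx₂W] at hx
  set y₁ := rr φ α a * rr φ β x₂ with hy₁
  set y₂ := rr φ γ a * rr φ δ x₂ with hy₂
  have hy₁W : y₁ ∈ W1 := W1.mul_mem (h1 _ _) (h1 _ _)
  have hy₂W : y₂ ∈ W1 := W1.mul_mem (h1 _ _) (h1 _ _)
  -- uniqueness of the decomposition
  have hv : y₁ / a = φ ww⁻¹ (x₂ / y₂) := by
    rw [map_div, div_eq_div_iff_mul_eq_mul, hx, mul_comm]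
  have hv1 : y₁ / a = 1 := by
    apply hS.disj _ (W1.div_mem hy₁W ha)
    rw [hv, ← MulAut.mul_apply, ← map_mul, mul_inv_cancel, map_one, MulAut.one_apply]
    exact W1.div_mem hx₂W hy₂W
  have hz1 : x₂ / y₂ = 1 := by
    rw [hv1] at hv
    have := congrArg (φ ww) hv
    rw [map_one, ← MulAut.mul_apply, ← map_mul, mul_inv_cancel, map_one, MulAut.one_apply] at this
    exact this.symm
  have E1 : y₁ = a := div_eq_one.mp hv1
  have E2 : y₂ = x₂ := (div_eq_one.mp hz1).symm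
  -- subtraction
  have hsub : ∀ (c d : F) (x : W), rr φ (c - d) x = rr φ c x / rr φ d x := by
    intro c d x
    have := h2 (c - d) d x
    rw [sub_add_cancel] at this
    rw [this, mul_div_cancel_right]
  have E1' : rr φ (α - 1) a * rr φ β x₂ = 1 := by
    rw [hsub, h3 a ha, div_mul_eq_mul_div, ← hy₁, E1, div_self']
  have E2' : rr φ γ a * rr φ (δ - 1) x₂ = 1 := by
    rw [hsub, h3 x₂ hx₂W, ← mul_div_assoc, ← hy₂, E2, div_self']
  set s : F := 2 - (α + δ) with hs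
  have hs0 : s ≠ 0 := by
    intro h0
    apply hg
    have : α + δ = 2 - s := by rw [hs]; ring
    rw [this, h0, sub_zero]
  have hkill : ∀ x ∈ W1, rr φ s x = 1 → x = 1 := by
    intro x hxW hx1
    have := h4 s⁻¹ s x hxW
    rw [inv_mul_cancel₀ hs0, h3 x hxW, hx1, map_one] at this
    exact this
  -- `ρ(s) a = 1`
  have K1 := congrArg (rr φ (δ - 1)) E1'
  rw [map_mul, map_one, ← h4 _ _ a ha, ← h4 _ _ x₂ hx₂W] at K1
  have K2 := congrArg (rr φ β) E2'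
  rw [map_mul, map_one, ← h4 _ _ a ha, ← h4 _ _ x₂ hx₂W] at K2
  have Ka : rr φ s a = 1 := by
    have e : s = (δ - 1) * (α - 1) - β * γ := by rw [hs]; linear_combination (-1 : F) * hdet
    rw [e, hsub, div_eq_one]
    have e2 : (δ - 1) * β = β * (δ - 1) := mul_comm _ _
    rw [e2] at K1
    exact mul_right_cancel (K1.trans K2.symm)
  -- `ρ(s) x₂ = 1`
  have K3 := congrArg (rr φ γ) E1'
  rw [map_mul, map_one, ← h4 _ _ a ha, ← h4 _ _ x₂ hx₂W] at K3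
  have K4 := congrArg (rr φ (α - 1)) E2'
  rw [map_mul, map_one, ← h4 _ _ a ha, ← h4 _ _ x₂ hx₂W] at K4
  have Kx : rr φ s x₂ = 1 := by
    have e : s = (α - 1) * (δ - 1) - γ * β := by rw [hs]; linear_combination (-1 : F) * hdet
    rw [e, hsub, div_eq_one]
    have e2 : γ * (α - 1) = (α - 1) * γ := mul_comm _ _
    rw [e2] at K3
    exact mul_left_cancel (K4.trans K3.symm)
  rw [hkill a ha Ka, hkill x₂ hx₂W Kx, map_one, mul_one]

end SL2

end Cfsg.Agent.Lib.Helper48.FL
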