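import Mathlib
import Cfsg.Agent.Lib.Helper48.FL.Defs

/-!
# Project FL (S2863): FL-[SL2MAT] — every `g ∈ SL(2,F)` acts on `W = W1 · w⁻¹W1` as the matrix `ρ(g)` (helper48)
-/

set_option autoImplicit false

namespace Cfsg.Agent.Lib.Helper48.FL

open Matrix Matrix.SpecialLinearGroup
open scoped MatrixGroups
open Cfsg.Agent.Lib.Helper19.NatSL2

section SL2

variable {F : Type*} [Field F] {W : Type*} [CommGroup W]

/-- the matrix formula for `g`. -/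
def PMat (φ : SL(2, F) →* MulAut W) (W1 : Subgroup W) (g : SL(2, F)) : Prop :=
  ∀ x₁ ∈ W1, ∀ x₂ ∈ W1, φ g (x₁ * φ ww⁻¹ x₂) =
    (rr φ (g.1 0 0) x₁ * rr φ (g.1 0 1) x₂) * φ ww⁻¹ (rr φ (g.1 1 0) x₁ * rr φ (g.1 1 1) x₂)

theorem rr_zero' (φ : SL(2, F) →* MulAut W) (x : W) : rr φ 0 x = 1 := by
  rw [rr_apply, uu_zero, map_one, MulAut.one_apply, div_self']

theorem hh_mul_ww_inv (t : Fˣ) : (hh t : SL(2, F)) * ww⁻¹ = ww⁻¹ * hh t⁻¹ := by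
  have h := ww_hh (F := F) t
  -- ww * hh t = hh t⁻¹ * ww
  have h2 : (hh t : SL(2, F)) = ww⁻¹ * hh t⁻¹ * ww := by
    rw [mul_assoc, ← h, ← mul_assoc, inv_mul_cancel, one_mul]
  calc (hh t : SL(2, F)) * ww⁻¹ = ww⁻¹ * hh t⁻¹ * ww * ww⁻¹ := by rw [← h2]
    _ = ww⁻¹ * hh t⁻¹ := by rw [mul_assoc, mul_inv_cancel, mul_one]

theorem ww_inv_mul_hh_neg_one : (ww : SL(2, F))⁻¹ * hh (-1) = ww := by
  rw [ww_inv, mul_assoc, hh_neg_one_sq, mul_one]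

variable (φ : SL(2, F) →* MulAut W) {W1 : Subgroup W} (hS : SL2Mod φ W1)
  (hh_rr : ∀ (t : Fˣ) (x : W), x ∈ W1 → φ (hh t) x = rr φ (t : F) x)
  (h1 : ∀ (a : F) (x : W), rr φ a x ∈ W1)
  (h2 : ∀ (a b : F) (x : W), rr φ (a + b) x = rr φ a x * rr φ b x)
  (h3 : ∀ x ∈ W1, rr φ 1 x = x)
  (h4 : ∀ (a b : F), ∀ x ∈ W1, rr φ (a * b) x = rr φ a (rr φ b x))

include hS h3 in
theorem pmat_uu (a : F) : PMat φ W1 (uu a) := by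
  intro x₁ hx₁ x₂ hx₂
  have e00 : (uu a : SL(2, F)).1 0 0 = 1 := rfl
  have e01 : (uu a : SL(2, F)).1 0 1 = a := rfl
  have e10 : (uu a : SL(2, F)).1 1 0 = 0 := rfl
  have e11 : (uu a : SL(2, F)).1 1 1 = 1 := rfl
  rw [e00, e01, e10, e11, h3 x₁ hx₁, h3 x₂ hx₂, rr_zero', one_mul, map_mul, hS.cent a x₁ hx₁]
  have : φ (uu a) (φ ww⁻¹ x₂) = rr φ a x₂ * φ ww⁻¹ x₂ := by
    rw [rr_apply, div_mul_cancel]
  rw [this, mul_assoc]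

include hh_rr in
theorem pmat_hh (t : Fˣ) : PMat φ W1 (hh t) := by
  intro x₁ hx₁ x₂ hx₂
  have e00 : (hh t : SL(2, F)).1 0 0 = (t : F) := rfl
  have e01 : (hh t : SL(2, F)).1 0 1 = 0 := rfl
  have e10 : (hh t : SL(2, F)).1 1 0 = 0 := rfl
  have e11 : (hh t : SL(2, F)).1 1 1 = ((t⁻¹ : Fˣ) : F) := rfl
  rw [e00, e01, e10, e11, rr_zero', rr_zero', mul_one, one_mul, map_mul, hh_rr t x₁ hx₁,
    ← hh_rr t⁻¹ x₂ hx₂]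
  congr 1
  rw [← MulAut.mul_apply, ← map_mul, hh_mul_ww_inv, map_mul, MulAut.mul_apply]

include hh_rr h3 in
theorem pmat_ww : PMat φ W1 ww := by
  intro x₁ hx₁ x₂ hx₂
  have e00 : (ww : SL(2, F)).1 0 0 = 0 := rfl
  have e01 : (ww : SL(2, F)).1 0 1 = 1 := rfl
  have e10 : (ww : SL(2, F)).1 1 0 = -1 := rfl
  have e11 : (ww : SL(2, F)).1 1 1 = 0 := rfl
  rw [e00, e01, e10, e11, rr_zero', rr_zero', mul_one, one_mul, h3 x₂ hx₂, map_mul]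
  have e1 : φ ww (φ ww⁻¹ x₂) = x₂ := by
    rw [← MulAut.mul_apply, ← map_mul, mul_inv_cancel, map_one, MulAut.one_apply]
  have e2 : rr φ (-1) x₁ = φ (hh (-1)) x₁ := by
    have := hh_rr (-1) x₁ hx₁
    rw [Units.val_neg, Units.val_one] at this
    exact this.symm
  have e3 : φ ww⁻¹ (φ (hh (-1)) x₁) = φ ww x₁ := by
    rw [← MulAut.mul_apply, ← map_mul, ww_inv_mul_hh_neg_one]
  rw [e1, e2, e3, mul_comm]

include h1 h2 h4 in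
theorem pmat_mul {g g' : SL(2, F)} (hg : PMat φ W1 g) (hg' : PMat φ W1 g') : PMat φ W1 (g * g') := by
  intro x₁ hx₁ x₂ hx₂
  have m00 : (g * g').1 0 0 = g.1 0 0 * g'.1 0 0 + g.1 0 1 * g'.1 1 0 := by
    simp [Matrix.SpecialLinearGroup.coe_mul, Matrix.mul_apply, Fin.sum_univ_two]
  have m01 : (g * g').1 0 1 = g.1 0 0 * g'.1 0 1 + g.1 0 1 * g'.1 1 1 := by
    simp [Matrix.SpecialLinearGroup.coe_mul, Matrix.mul_apply, Fin.sum_univ_two]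
  have m10 : (g * g').1 1 0 = g.1 1 0 * g'.1 0 0 + g.1 1 1 * g'.1 1 0 := by
    simp [Matrix.SpecialLinearGroup.coe_mul, Matrix.mul_apply, Fin.sum_univ_two]
  have m11 : (g * g').1 1 1 = g.1 1 0 * g'.1 0 1 + g.1 1 1 * g'.1 1 1 := by
    simp [Matrix.SpecialLinearGroup.coe_mul, Matrix.mul_apply, Fin.sum_univ_two]
  rw [map_mul φ g g', MulAut.mul_apply, hg' x₁ hx₁ x₂ hx₂,
    hg _ (W1.mul_mem (h1 _ _) (h1 _ _)) _ (W1.mul_mem (h1 _ _) (h1 _ _)),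
    m00, m01, m10, m11, h2, h2, h2, h2,
    h4 _ _ x₁ hx₁, h4 _ _ x₁ hx₁, h4 _ _ x₂ hx₂, h4 _ _ x₂ hx₂,
    h4 _ _ x₁ hx₁, h4 _ _ x₁ hx₁, h4 _ _ x₂ hx₂, h4 _ _ x₂ hx₂]
  simp only [map_mul]
  ac_rfl

include hS hh_rr h1 h2 h3 h4 in
/-- FL-[SL2MAT] -/
theorem act_matrix (g : SL(2, F)) (x₁ x₂ : W) (hx₁ : x₁ ∈ W1) (hx₂ : x₂ ∈ W1) :
    φ g (x₁ * φ ww⁻¹ x₂) =
      (rr φ (g.1 0 0) x₁ * rr φ (g.1 0 1) x₂) * φ ww⁻¹ (rr φ (g.1 1 0) x₁ * rr φ (g.1 1 1) x₂) := by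
  have hmul := @pmat_mul F _ W _ φ W1 h1 h2 h4
  suffices h : PMat φ W1 g from h x₁ hx₁ x₂ hx₂
  by_cases hc : (g : Matrix (Fin 2) (Fin 2) F) 1 0 = 0
  · obtain ⟨x, t, rfl⟩ := exists_eq_uu_hh g hc
    exact hmul (pmat_uu φ hS h3 x) (pmat_hh φ hh_rr t)
  · obtain ⟨x, t, y, rfl⟩ := exists_eq_uu_ww_hh_uu g hc
    exact hmul (hmul (hmul (pmat_uu φ hS h3 x) (pmat_ww φ hh_rr h3)) (pmat_hh φ hh_rr t))
      (pmat_uu φ hS h3 y)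

end SL2

end Cfsg.Agent.Lib.Helper48.FL
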