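import Mathlib
import Cfsg.Agent.Lib.Helper48.FL.Defs

/-!
# Project FL (S2863): FL-[SL2RING] — `ρ` is a ring homomorphism on `W1` (helper48)
-/

set_option autoImplicit false

namespace Cfsg.Agent.Lib.Helper48.FL

open Matrix Matrix.SpecialLinearGroup
open scoped MatrixGroups
open Cfsg.Agent.Lib.Helper19.NatSL2

section SL2

variable {F : Type*} [Field F] {W : Type*} [CommGroup W]

theorem rr_zero (φ : SL(2, F) →* MulAut W) (x : W) : rr φ 0 x = 1 := by
  rw [rr_apply, uu_zero, map_one, MulAut.one_apply, div_self']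

/-- FL-[SL2RING] -/
theorem rr_ring (φ : SL(2, F) →* MulAut W) {W1 : Subgroup W} (hS : SL2Mod φ W1)
    (hh_rr : ∀ (t : Fˣ) (x : W), x ∈ W1 → φ (hh t) x = rr φ (t : F) x) :
    (∀ (a : F) (x : W), rr φ a x ∈ W1) ∧
    (∀ (a b : F) (x : W), rr φ (a + b) x = rr φ a x * rr φ b x) ∧
    (∀ x ∈ W1, rr φ 1 x = x) ∧
    (∀ (a b : F), ∀ x ∈ W1, rr φ (a * b) x = rr φ a (rr φ b x)) := by
  have h1 : ∀ (a : F) (x : W), rr φ a x ∈ W1 := fun a x => hS.comm a _
  refine ⟨h1, ?_, ?_, ?_⟩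
  · intro a b x
    rw [rr_apply, rr_apply, rr_apply, uu_add, map_mul, MulAut.mul_apply]
    set z := φ ww⁻¹ x
    have hb : φ (uu b) z / z ∈ W1 := hS.comm b z
    have h2 : φ (uu b) z = (φ (uu b) z / z) * z := by rw [div_mul_cancel]
    rw [h2, map_mul, hS.cent a _ hb, div_mul_cancel]
    rw [mul_div_assoc, mul_comm]
  · intro x hx
    have := hh_rr 1 x hx
    rw [hh_one, map_one, MulAut.one_apply] at this
    rw [← Units.val_one]
    exact this.symm
  · intro a b x hx
    by_cases ha : a = 0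
    · rw [ha, zero_mul, rr_zero, rr_zero]
    by_cases hb : b = 0
    · rw [hb, mul_zero, rr_zero]
      exact (map_one _).symm
    have e1 := hh_rr (Units.mk0 a ha * Units.mk0 b hb) x hx
    have e2 := hh_rr (Units.mk0 b hb) x hx
    have e3 := hh_rr (Units.mk0 a ha) (rr φ b x) (h1 b x)
    rw [Units.val_mul, Units.val_mk0, Units.val_mk0] at e1
    rw [Units.val_mk0] at e2 e3
    rw [← e1, ← e3, ← e2, hh_mul, map_mul, MulAut.mul_apply]

end SL2

end Cfsg.Agent.Lib.Helper48.FL
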