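import Mathlib
import Cfsg.Agent.Lib.Helper48.FL.Defs

/-!
# Project FL (S2863): FL-[SL2W] — the torus element `h(t)` acts on `W1` as `ρ(t)` (helper48)
-/

set_option autoImplicit false

namespace Cfsg.Agent.Lib.Helper48.FL

open Matrix Matrix.SpecialLinearGroup
open scoped MatrixGroups
open Cfsg.Agent.Lib.Helper19.NatSL2

section SL2

variable {F : Type*} [Field F] {W : Type*} [CommGroup W]

/-- `h(t) = u(t) · (w u(1/t) w⁻¹) · u(t) · w⁻¹`. -/
theorem hh_eq_prod (t : Fˣ) :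
    (hh t : SL(2, F)) = uu (t : F) * (ww * uu ((t⁻¹ : Fˣ) : F) * ww⁻¹) * uu (t : F) * ww⁻¹ := by
  rw [ww_inv]
  apply Subtype.ext
  ext i j
  fin_cases i <;> fin_cases j <;> simp [Matrix.mul_apply, Fin.sum_univ_two]

/-- `w⁻¹ = w · h(-1)` so `w⁻¹ x = w (h(-1) x)`. -/
theorem ww_inv_apply (φ : SL(2, F) →* MulAut W) (x : W) :
    φ ww⁻¹ x = φ ww (φ (hh (-1)) x) := by
  rw [ww_inv, map_mul]
  rfl

theorem aux_comm (a c b x : W) : a * (c * b) * (a * x) = (a * c * a) * (b * x) := by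
  simp only [mul_assoc, mul_left_comm, mul_comm]

/-- FL-[SL2W] -/
theorem hh_apply_eq_rr (φ : SL(2, F) →* MulAut W) {W1 : Subgroup W} (hS : SL2Mod φ W1) (t : Fˣ)
    (x : W) (hx : x ∈ W1) : φ (hh t) x = rr φ (t : F) x := by
  -- notation
  set x' : W := φ (hh (-1)) x with hx'
  have hx'1 : x' ∈ W1 := hS.stab _ x hx
  set x2 : W := φ ww⁻¹ x with hx2
  have hx2' : x2 = φ ww x' := ww_inv_apply φ x
  set a1 : W := φ (uu (t : F)) x2 / x2 with ha1
  have ha1W : a1 ∈ W1 := hS.comm _ _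
  have hu_x2 : φ (uu (t : F)) x2 = a1 * x2 := by rw [ha1, div_mul_cancel]
  set l : SL(2, F) := ww * uu ((t⁻¹ : Fˣ) : F) * ww⁻¹ with hl
  -- `l` fixes `w W1`
  have hl_fix : ∀ z ∈ W1, φ l (φ ww z) = φ ww z := by
    intro z hz
    have : l * ww = ww * uu ((t⁻¹ : Fˣ) : F) := by rw [hl]; group
    rw [← MulAut.mul_apply, ← map_mul, this, map_mul, MulAut.mul_apply, hS.cent _ z hz]
  -- `[W, l] ≤ w W1`
  have hl_comm : ∀ z : W, ∃ b ∈ W1, φ l z / z = φ ww b := by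
    intro z
    refine ⟨φ (uu ((t⁻¹ : Fˣ) : F)) (φ ww⁻¹ z) / φ ww⁻¹ z, hS.comm _ _, ?_⟩
    rw [map_div]
    congr 1
    · rw [hl, map_mul, map_mul]; rfl
    · rw [← MulAut.mul_apply, ← map_mul, mul_inv_cancel, map_one]; rfl
  obtain ⟨b', hb'W, hb'⟩ := hl_comm a1
  set b2 : W := φ l a1 / a1 with hb2
  have hl_a1 : φ l a1 = a1 * b2 := by rw [hb2, mul_div_cancel]
  set c1 : W := φ (uu (t : F)) b2 / b2 with hc1
  have hc1W : c1 ∈ W1 := hS.comm _ _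
  have hu_b2 : φ (uu (t : F)) b2 = c1 * b2 := by rw [hc1, div_mul_cancel]
  -- the computation
  have hcomp : φ (hh t) x = (a1 * c1 * a1) * (b2 * x2) := by
    have e1 : φ (hh t) x = φ (uu (t : F)) (φ l (φ (uu (t : F)) x2)) := by
      rw [hh_eq_prod t, ← hl, map_mul, map_mul, map_mul]; rfl
    rw [e1, hu_x2, map_mul (φ l), hx2', hl_fix x' hx'1, ← hx2', hl_a1, map_mul, map_mul,
      hS.cent _ a1 ha1W, hu_b2, hu_x2]
    exact aux_comm a1 c1 b2 x2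
  -- `b2 * x2 ∈ W1 ∩ w W1`
  have h1 : b2 * x2 ∈ W1 := by
    have : b2 * x2 = φ (hh t) x / (a1 * c1 * a1) := by rw [hcomp, mul_div_cancel_left]
    rw [this]
    exact W1.div_mem (hS.stab t x hx) (W1.mul_mem (W1.mul_mem ha1W hc1W) ha1W)
  have h2 : b2 * x2 = φ ww (b' * x') := by rw [map_mul, ← hb', ← hx2']
  have h3 : b' * x' = 1 := hS.disj _ (W1.mul_mem hb'W hx'1) (by rw [← h2]; exact h1)
  have h4 : b2 * x2 = 1 := by rw [h2, h3, map_one]
  have h5 : b2 = x2⁻¹ := eq_inv_of_mul_eq_one_left h4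
  have h6 : c1 = a1⁻¹ := by
    rw [hc1, h5, map_inv, ha1, inv_div_inv, inv_div]
  rw [hcomp, h4, h6, mul_one, mul_inv_cancel, one_mul]
  rfl

end SL2

end Cfsg.Agent.Lib.Helper48.FL
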