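import Mathlib
import Cfsg.Prelude.Def_LocalStructure
import Cfsg.Agent.Lib.Helper48.FL.Defs
import Cfsg.Agent.Lib.Helper48.FL.Raw
import Cfsg.Agent.Lib.Helper48.FL.SL2W
import Cfsg.Agent.Lib.Helper48.FL.SL2Ring
import Cfsg.Agent.Lib.Helper48.FL.SL2Mat
import Cfsg.Agent.Lib.Helper48.FL.SL2Fpf
import Cfsg.Agent.Lib.Helper48.FL.LModRaw
import Cfsg.Agent.Lib.Helper31.FLKGen2
import Cfsg.Agent.Lib.Helper31.FLSzStar
import Cfsg.Agent.Lib.Helper73.FLTwo
import Cfsg.Agent.Lib.Helper77.FLAct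
import Cfsg.Agent.Lib.Helper77.FLLGen
import Cfsg.Agent.Lib.Helper46.FLSL2TR
import Cfsg.Agent.Lib.Helper6.FLSzFacts
import Cfsg.Agent.Lib.Helper48.FrakL
import Cfsg.Agent.Lib.Helper48.FrakLSz
import Cfsg.Agent.Lib.Helper47.PReducedAmb

/-!
# Project FL (S2863): assembly (helper48)
-/

set_option autoImplicit false

namespace Cfsg.Agent.Lib.Helper48.FL

open Cfsg Cfsg.Agent.Lib.Helper48 Cfsg.Agent.Lib.Helper47
open Matrix Matrix.SpecialLinearGroup
open scoped MatrixGroups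
open Cfsg.Agent.Lib.Helper19.NatSL2

universe u

/-! ## transport along isomorphisms -/

section transport

variable {K : Type*} [Group K] {K' : Type*} [Group K'] {W : Type*} [CommGroup W]

theorem LMod.map (e : K ≃* K') {φ : K →* MulAut W} {Yh R : Subgroup K} {W1 : Subgroup W}
    (h : LMod φ Yh R W1) :
    LMod (φ.comp e.symm.toMonoidHom) (Yh.map e.toMonoidHom) (R.map e.toMonoidHom) W1 := by
  have hmem : ∀ (H : Subgroup K) (k' : K'), k' ∈ H.map e.toMonoidHom ↔ e.symm k' ∈ H := by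
    intro H k'
    constructor
    · rintro ⟨k, hk, rfl⟩
      simpa using hk
    · intro hk
      exact ⟨e.symm k', hk, by simp⟩
  refine ⟨?_, ?_, ?_, ?_, ?_⟩
  · intro y hy x hx
    exact h.cent _ ((hmem _ _).mp hy) x hx
  · intro y hy x
    exact h.comm _ ((hmem _ _).mp hy) x
  · intro r hr x hx
    exact h.stab _ ((hmem _ _).mp hr) x hx
  · intro k hk x hx hkx
    exact h.disj (e.symm k) (fun hc => hk ((hmem _ _).mpr hc)) x hx hkx
  · intro k hk x
    exact h.span (e.symm k) (fun hc => hk ((hmem _ _).mpr hc)) x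

theorem Fpf.of_map (e : K ≃* K') {φ : K →* MulAut W} {k : K}
    (h : Fpf (φ.comp e.symm.toMonoidHom) (e k)) : Fpf φ k := by
  intro x hx
  apply h x
  simpa using hx

end transport

/-! ## the `SL(2,F)` case -/

section SL2

variable {F : Type*} [Field F] {W : Type*} [CommGroup W]

/-- standard position -/
theorem sl2_std (φ : SL(2, F) →* MulAut W) {W1 : Subgroup W} (hS : SL2Mod φ W1)
    (g : SL(2, F)) (hg : g.1 0 0 + g.1 1 1 ≠ 2) : Fpf φ g := by
  have hhr := hh_apply_eq_rr φ hS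
  obtain ⟨h1, h2, h3, h4⟩ := rr_ring φ hS hhr
  have hmat := act_matrix φ hS hhr h1 h2 h3 h4
  exact fpf_of_trace φ hS h1 h2 h3 h4 hmat g hg

theorem uu_eq_uSL (a : F) : (uu a : SL(2, F)) = uSL a := rfl

theorem hh_eq_dSL (t : Fˣ) : (hh t : SL(2, F)) = dSL t := rfl

theorem ww_not_mem_normalizer :
    (ww : SL(2, F)) ∉ Subgroup.normalizer ((Cfsg.Agent.Lib.Helper5.unipSL F : Subgroup SL(2, F)) : Set SL(2, F)) := by
  intro h
  have h1 := (Subgroup.mem_normalizer_iff.mp h (uu 1)).mp (by rw [uu_eq_uSL]; exact uSL_mem 1)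
  rw [Cfsg.Agent.Lib.Helper5.mem_unipSL] at h1
  have h2 := h1.2.1
  have h3 : ((ww : SL(2, F)) * uu 1 * ww⁻¹).1 1 0 = -1 := by
    rw [Cfsg.Agent.Lib.Helper5.sl2_mul_apply, Cfsg.Agent.Lib.Helper5.sl2_mul_apply,
      Cfsg.Agent.Lib.Helper5.sl2_mul_apply, Cfsg.Agent.Lib.Helper5.sl2_inv_00,
      Cfsg.Agent.Lib.Helper5.sl2_inv_10]
    simp [uu, ww]
  rw [h3] at h2
  simp at h2

variable [Fintype F]

theorem fpf_sl2 {K : Type u} [Group K] {p : ℕ} [Fact p.Prime] (e : K ≃* SL(2, F))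
    {W : Type u} [CommGroup W] (φ : K →* MulAut W) {Yh R : Subgroup K} {W1 : Subgroup W}
    (hQ : LQuot p Yh R) (hM : LMod φ Yh R W1) (hcard : Nat.card Yh = Fintype.card F)
    (k : K) (hk : ¬ ∃ n : ℕ, orderOf k = p ^ n) : Fpf φ k := by
  classical
  have hKfin : Finite K := Finite.of_equiv _ e.symm.toEquiv
  have hYp : IsPGroup p Yh := Cfsg.Agent.Lib.Helper47.IsElementaryAbelian.isPGroup hQ.ea
  obtain ⟨j, hj⟩ := hYp.exists_card_eq
  have hchar : CharP F p := by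
    set r := ringChar F with hr
    have hcr : CharP F r := ringChar.charP F
    obtain ⟨n, hrp, hn⟩ := FiniteField.card F r
    have h1 : r ∣ p ^ j := by
      rw [← hj, hcard, hn]
      exact dvd_pow_self r n.pos.ne'
    have h2 : r = p := (Nat.prime_dvd_prime_iff_eq hrp Fact.out).mp (hrp.dvd_of_dvd_pow h1)
    rw [← h2]; exact hcr
  have h' := hQ.map e
  have hM' := hM.map e
  have hcard' : Nat.card (Yh.map e.toMonoidHom) = Fintype.card F := by
    rw [Subgroup.card_map_of_injective e.injective, hcard]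
  obtain ⟨P, hP⟩ := (Cfsg.Agent.Lib.Helper47.IsElementaryAbelian.isPGroup h'.ea).exists_le_sylow
  have hYP : Yh.map e.toMonoidHom = P := by
    apply Subgroup.eq_of_le_of_card_ge hP
    rw [Cfsg.Agent.Lib.Helper5.card_sylow_sl2 p P, hcard']
  obtain ⟨g, hg⟩ := Cfsg.Agent.Lib.Helper5.exists_smul_unipSLSylow_eq p P
  have hPg : (P : Subgroup SL(2, F)) =
      (Cfsg.Agent.Lib.Helper5.unipSL F).map (MulAut.conj g).toMonoidHom := by
    rw [← hg, Cfsg.Agent.Lib.Helper5.smul_unipSLSylow_coe, Subgroup.pointwise_smul_def]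
    rfl
  let e₂ : SL(2, F) ≃* SL(2, F) := MulAut.conj g⁻¹
  have hY2 : (Yh.map e.toMonoidHom).map e₂.toMonoidHom = Cfsg.Agent.Lib.Helper5.unipSL F := by
    rw [hYP, hPg, Subgroup.map_map]
    have : e₂.toMonoidHom.comp (MulAut.conj g).toMonoidHom = MonoidHom.id _ := by
      ext x : 1
      simp [e₂, MulAut.conj_apply]
      group
    rw [this, Subgroup.map_id]
  have h'' := h'.map e₂
  have hM'' := hM'.map e₂
  rw [hY2] at h'' hM''
  have hR := h''.R_eq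
  have hS : SL2Mod ((φ.comp e.symm.toMonoidHom).comp e₂.symm.toMonoidHom) W1 := by
    refine ⟨?_, ?_, ?_, ?_, ?_⟩
    · intro a x hx
      exact hM''.cent (uu a) (by rw [uu_eq_uSL]; exact uSL_mem a) x hx
    · intro a x
      exact hM''.comm (uu a) (by rw [uu_eq_uSL]; exact uSL_mem a) x
    · intro x hx hwx
      exact hM''.disj ww (by rw [hR]; exact ww_not_mem_normalizer) x hx hwx
    · intro x
      exact hM''.span ww (by rw [hR]; exact ww_not_mem_normalizer) x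
    · intro t x hx
      exact hM''.stab (hh t) (by rw [hR, hh_eq_dSL]; exact dSL_mem_normalizer p t) x hx
  apply Fpf.of_map e
  apply Fpf.of_map e₂
  apply sl2_std _ hS
  intro htr
  have h1 := Cfsg.Agent.Lib.Helper46.FL.orderOf_of_trace_two (p := p) (e₂ (e k)) htr
  have h2 : k ^ p = 1 := by
    apply e.injective
    apply e₂.injective
    rw [map_pow, map_pow, h1, map_one, map_one]
  have h3 : orderOf k ∣ p := orderOf_dvd_of_pow_eq_one h2
  rcases (Nat.dvd_prime Fact.out).mp h3 with h4 | h4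
  · exact hk ⟨0, by rw [h4, pow_zero]⟩
  · exact hk ⟨1, by rw [h4, pow_one]⟩

end SL2

/-! ## the Suzuki case -/

theorem fpf_sz {K : Type u} [Group K] {F : Type} [Field F] [Fintype F] {m : ℕ} (hm : 1 ≤ m)
    (hF : Fintype.card F = 2 ^ (2 * m + 1)) (e : K ≃* ↥(Cfsg.Lie.Sz F (2 ^ (m + 1))))
    {W : Type u} [CommGroup W] (φ : K →* MulAut W) {Yh R : Subgroup K} {W1 : Subgroup W}
    (hQ : LQuot 2 Yh R) (hM : LMod φ Yh R W1) (hcard : Nat.card Yh = Fintype.card F)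
    (k : K) (hk : ¬ ∃ n : ℕ, orderOf k = 2 ^ n) : Fpf φ k := by
  have hKfin : Finite K := Finite.of_equiv _ e.symm.toEquiv
  obtain ⟨F1, F2, F3⟩ := Cfsg.Agent.Lib.Helper6.FL.sz_facts hm hF e hQ hcard
  exact Cfsg.Agent.Lib.Helper31.FL.fpf_of_sz_facts φ hQ hM F1 F2 F3 k hk

/-! ## the abstract theorem in `L` -/

theorem not_pow_of_not_pow {L : Type u} [Group L] {p : ℕ} [Fact p.Prime] (A : Subgroup L) [A.Normal]
    (hA : IsPGroup p A) (h : L) (hnp : ¬ ∃ k : ℕ, orderOf h = p ^ k) :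
    ¬ ∃ n : ℕ, orderOf (QuotientGroup.mk' A h) = p ^ n := by
  rintro ⟨n, hn⟩
  apply hnp
  have h1 : (QuotientGroup.mk' A h) ^ (p ^ n) = 1 := by rw [← hn]; exact pow_orderOf_eq_one _
  rw [← map_pow] at h1
  have h2 : h ^ (p ^ n) ∈ A := (QuotientGroup.eq_one_iff _).mp h1
  obtain ⟨j, hj⟩ := hA ⟨_, h2⟩
  have h3 : h ^ (p ^ (n + j)) = 1 := by
    have := congrArg Subtype.val hj
    simp only [Subgroup.coe_pow, Subgroup.coe_one] at this
    rw [pow_add, pow_mul]; exact this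
  obtain ⟨i, -, hi⟩ := (Nat.dvd_prime_pow Fact.out).mp (orderOf_dvd_of_pow_eq_one h3)
  exact ⟨i, hi⟩

theorem fpf_of_raw {L : Type u} [Group L] [Finite L] {p : ℕ} [Fact p.Prime] (Y A : Subgroup L)
    [hA : A.Normal] (hD : LRaw p Y A)
    (hcases : (∃ (F : Type) (_ : Field F) (_ : Fintype F),
        Fintype.card F = (Y ⊓ A).relIndex Y ∧ Nonempty (L ⧸ A ≃* SL(2, F))) ∨
      (p = 2 ∧ ∃ (F : Type) (_ : Field F) (_ : Fintype F) (m : ℕ),
        Fintype.card F = 2 ^ (2 * m + 1) ∧ Fintype.card F = (Y ⊓ A).relIndex Y ∧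
          Nonempty (L ⧸ A ≃* ↥(Cfsg.Lie.Sz F (2 ^ (m + 1))))) ∨
      (p = 2 ∧ ∃ r : ℕ, r.Prime ∧ r ≠ 2 ∧ Nonempty (L ⧸ A ≃* DihedralGroup r)))
    (h : L) (hnp : ¬ ∃ k : ℕ, orderOf h = p ^ k) :
    ∀ a ∈ A, h * a * h⁻¹ * a⁻¹ ∈ Y ⊓ Subgroup.center L → a ∈ Y ⊓ Subgroup.center L := by
  classical
  have hQ := lquot_of_raw Y A hD
  have hgen2 := raw_gen2_of Y A hD (fun k hk => Cfsg.Agent.Lib.Helper31.FL.sup_conj_eq_top hQ k hk)
  obtain ⟨G1, G2, G3, G4, G5⟩ := Cfsg.Agent.Lib.Helper77.FL.gen_facts Y A hD hgen2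
  obtain ⟨W, _, φ, q, hq, hker, hact⟩ :=
    Cfsg.Agent.Lib.Helper77.FL.exists_act A (Y ⊓ Subgroup.center L) (G4.trans inf_le_right) inf_le_right G5
  have hM := lmod_of_raw Y A hD G1 G2 G3 G4 φ q hq hker hact
  have hcardY : Nat.card (Y.map (QuotientGroup.mk' A)) = (Y ⊓ A).relIndex Y := by
    rw [← Subgroup.relIndex_ker, QuotientGroup.ker_mk', Subgroup.inf_relIndex_left]
  have hk := not_pow_of_not_pow A hD.pA h hnp
  have hfpf : Fpf φ (QuotientGroup.mk' A h) := by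
    rcases hcases with ⟨F, _, _, hc, ⟨e⟩⟩ | ⟨hp2, F, _, _, m, hF, hc, ⟨e⟩⟩ | ⟨hp2, r, hr, hr2, ⟨e⟩⟩
    · exact fpf_sl2 e φ hQ hM (by rw [hcardY, hc]) _ hk
    · subst hp2
      by_cases hm : m = 0
      · apply Cfsg.Agent.Lib.Helper73.FL.fpf_two_of φ hQ hM (fun k hk => Cfsg.Agent.Lib.Helper31.FL.sup_conj_eq_top hQ k hk) _ _ hk
        rw [hcardY, ← hc, hF, hm]
        norm_num
      · exact fpf_sz (Nat.one_le_iff_ne_zero.mpr hm) hF e φ hQ hM (by rw [hcardY, hc]) _ hk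
    · subst hp2
      apply Cfsg.Agent.Lib.Helper73.FL.fpf_two_of φ hQ hM (fun k hk => Cfsg.Agent.Lib.Helper31.FL.sup_conj_eq_top hQ k hk) _ _ hk
      exact card_eq_two_of_dihedral hr hr2 e
        (Cfsg.Agent.Lib.Helper47.IsElementaryAbelian.isPGroup hQ.ea) hQ.ne_bot
  intro a ha hc
  have h1 : φ (QuotientGroup.mk' A h) (q ⟨a, ha⟩) = q ⟨a, ha⟩ := by
    have h2 := hact h ⟨a, ha⟩
    have h3 : (⟨h * a * h⁻¹, hA.conj_mem a ha h⟩ : A) =
        ⟨h * a * h⁻¹ * a⁻¹, A.mul_mem (hA.conj_mem a ha h) (A.inv_mem ha)⟩ * ⟨a, ha⟩ := by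
      apply Subtype.ext
      simp
    have h4 : q ⟨h * a * h⁻¹ * a⁻¹, A.mul_mem (hA.conj_mem a ha h) (A.inv_mem ha)⟩ = 1 :=
      (hker _).mpr hc
    change φ ((h : L ⧸ A)) (q ⟨a, ha⟩) = q ⟨a, ha⟩
    rw [h2, h3, map_mul, h4, one_mul]
  exact (hker ⟨a, ha⟩).mp (hfpf _ h1)

/-! ## the statement S2863 -/

theorem frakL_fpf {G : Type*} [Group G] [Finite G] {p : ℕ} [Fact p.Prime] (M : Subgroup G)
    (L : Subgroup G) (hL : Cfsg.IsInFrakL p M L) (h : G) (hh : h ∈ L)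
    (hnp : ¬ ∃ k : ℕ, orderOf h = p ^ k) :
    ∀ a ∈ (Cfsg.pCoreOf p L), h * a * h⁻¹ * a⁻¹ ∈ (Cfsg.largestPReducedOf p M) ⊓
      Subgroup.centralizer ((L : Subgroup G) : Set G) →
      a ∈ (Cfsg.largestPReducedOf p M) ⊓ Subgroup.centralizer ((L : Subgroup G) : Set G) := by
  classical
  obtain ⟨hYL, hgen, hAN, ⟨hncl, -⟩, hself, ⟨hNlt, hmax⟩, hcases⟩ := hL
  set Y := Cfsg.largestPReducedOf p M with hY
  have hYea : IsElementaryAbelian p Y := isElementaryAbelian_largestPReducedOf p M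
  have hcore : ∀ l : ↥L, l ∈ Cfsg.pCore p ↥L ↔ (l : G) ∈ Cfsg.pCoreOf p L := by
    intro l
    constructor
    · intro hl
      exact ⟨l, hl, rfl⟩
    · rintro ⟨l', hl', hll'⟩
      have : l' = l := Subtype.ext hll'
      rw [← this]; exact hl'
  have hinf : (Y.subgroupOf L ⊓ Cfsg.pCore p ↥L : Subgroup ↥L) = (Y ⊓ Cfsg.pCoreOf p L).subgroupOf L := by
    ext l
    rw [Subgroup.mem_inf, Subgroup.mem_subgroupOf, Subgroup.mem_subgroupOf, Subgroup.mem_inf, hcore]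
  have hnorm : Subgroup.normalizer ((Y.subgroupOf L : Subgroup ↥L) : Set ↥L) =
      (Subgroup.normalizer (Y : Set G)).subgroupOf L :=
    (Subgroup.subgroupOf_normalizer_eq hYL).symm
  have hD : LRaw p (Y.subgroupOf L) (Cfsg.pCore p ↥L) := by
    refine ⟨pCore_isPGroup p ↥L, isElementaryAbelian_subgroupOf hYea, ?_, ?_, hself, ?_, ?_, hncl⟩
    · intro a ha
      rw [hnorm, Subgroup.mem_subgroupOf]
      exact hAN ((hcore a).mp ha)
    · intro a ha
      have h1 : (a : G) ∈ Cfsg.pCoreOf p L := (hcore a).mp ha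
      rw [hgen] at h1
      obtain ⟨l', hl', hll'⟩ := h1
      have : l' = a := Subtype.ext hll'
      rw [hinf, ← this]
      exact hl'
    · rw [hnorm]
      intro htop
      apply hNlt.ne
      apply le_antisymm inf_le_left
      intro l hl
      have : (⟨l, hl⟩ : ↥L) ∈ (Subgroup.normalizer (Y : Set G)).subgroupOf L := by rw [htop]; trivial
      exact ⟨hl, this⟩
    · intro X hYX hXtop
      have hX1 : Y ≤ X.map L.subtype := by
        intro y hy
        exact ⟨⟨y, hYL hy⟩, hYX (by rw [Subgroup.mem_subgroupOf]; exact hy), rfl⟩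
      have hX2 : X.map L.subtype < L := by
        refine lt_of_le_of_ne (Subgroup.map_subtype_le _) ?_
        intro h0
        apply hXtop
        rw [eq_top_iff]
        intro x _
        have : (x : G) ∈ X.map L.subtype := by rw [h0]; exact x.2
        obtain ⟨l', hl', hll'⟩ := this
        have : l' = x := Subtype.ext hll'
        rw [← this]; exact hl'
      have hX3 := hmax _ hX1 hX2
      intro x hx
      rw [hnorm, Subgroup.mem_subgroupOf]
      exact (hX3 ⟨x, hx, rfl⟩).2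
  have hrel : (Y.subgroupOf L ⊓ Cfsg.pCore p ↥L).relIndex (Y.subgroupOf L) =
      (Y ⊓ Cfsg.pCoreOf p L).relIndex Y := by
    rw [hinf, Subgroup.relIndex_subgroupOf hYL]
  have hcases' : (∃ (F : Type) (_ : Field F) (_ : Fintype F),
        Fintype.card F = (Y.subgroupOf L ⊓ Cfsg.pCore p ↥L).relIndex (Y.subgroupOf L) ∧
          Nonempty (↥L ⧸ Cfsg.pCore p ↥L ≃* SL(2, F))) ∨
      (p = 2 ∧ ∃ (F : Type) (_ : Field F) (_ : Fintype F) (m : ℕ),
        Fintype.card F = 2 ^ (2 * m + 1) ∧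
          Fintype.card F = (Y.subgroupOf L ⊓ Cfsg.pCore p ↥L).relIndex (Y.subgroupOf L) ∧
          Nonempty (↥L ⧸ Cfsg.pCore p ↥L ≃* ↥(Cfsg.Lie.Sz F (2 ^ (m + 1))))) ∨
      (p = 2 ∧ ∃ r : ℕ, r.Prime ∧ r ≠ 2 ∧ Nonempty (↥L ⧸ Cfsg.pCore p ↥L ≃* DihedralGroup r)) := by
    rw [hrel]
    exact hcases
  have hord : ¬ ∃ k : ℕ, orderOf (⟨h, hh⟩ : ↥L) = p ^ k := by
    rw [Subgroup.orderOf_mk]; exact hnp
  have key := fpf_of_raw (Y.subgroupOf L) (Cfsg.pCore p ↥L) hD hcases' ⟨h, hh⟩ hord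
  have hcen : ∀ l : ↥L, l ∈ (Y.subgroupOf L ⊓ Subgroup.center ↥L : Subgroup ↥L) ↔
      (l : G) ∈ Y ⊓ Subgroup.centralizer ((L : Subgroup G) : Set G) := by
    intro l
    rw [Subgroup.mem_inf, Subgroup.mem_inf, Subgroup.mem_subgroupOf, Subgroup.mem_center_iff,
      Subgroup.mem_centralizer_iff]
    constructor
    · rintro ⟨h1, h2⟩
      refine ⟨h1, fun x hx => ?_⟩
      have := congrArg Subtype.val (h2 ⟨x, hx⟩)
      simpa using this
    · rintro ⟨h1, h2⟩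
      refine ⟨h1, fun x => ?_⟩
      apply Subtype.ext
      simpa using h2 x x.2
  intro a ha hc
  have haL : a ∈ L := pCoreOf_le p L ha
  have h1 := key ⟨a, haL⟩ ((hcore _).mpr ha) ((hcen _).mpr (by simpa using hc))
  exact (hcen _).mp h1

end Cfsg.Agent.Lib.Helper48.FL
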